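import Mathlib
import Groth.Prelude.Def_EGA4b
import Groth.Agent.H05EGA4.Completion
import Groth.Agent.H05EGA4.FormalFibres
import Groth.Agent.H05EGA4.GRingPoly
import Groth.Agent.H05EGA4.NormalTensorGeom
import Groth.Agent.H05EGA4.FibreLifting
import Groth.Agent.H05EGA4.SerreCond
import Groth.Agent.H05EGA4.EakinNagata
import Groth.Agent.H24Adic.Basic
import Groth.Agent.H26Grass.DimLemma

/-!
# Completions of normal local G-rings and maps between them
-/

set_option autoImplicit false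
set_option linter.style.haveILetI false
universe u
open IsLocalRing Groth.Agent Groth.Agent.H05EGA4

namespace Groth.Agent.H9Cpl

/-- The completion of a normal local G-ring is a normal domain. -/
theorem isDomain_cpl {A : Type u} [CommRing A] [IsLocalRing A] [IsDomain A] [IsIntegrallyClosed A]
    (hG : CAlg.IsGRing A) : ∃ _ : IsDomain (EGA4.Cpl A), IsIntegrallyClosed (EGA4.Cpl A) := by
  haveI := hG.1
  haveI := isNoetherianRing_cpl A
  let e := (IsLocalization.atUnits A (maximalIdeal A).primeCompl (S := Localization.AtPrime (maximalIdeal A))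
    fun x hx => IsLocalRing.notMem_maximalIdeal.mp hx).symm.toRingEquiv
  haveI : IsNoetherianRing (Localization.AtPrime (maximalIdeal A)) := isNoetherianRing_of_ringEquiv A e.symm
  haveI := isNoetherianRing_cpl (Localization.AtPrime (maximalIdeal A))
  have h : GRSHom 1 2 A (EGA4.Cpl A) := GRSHom.cpl_of_surjective e.toRingHom e.surjective
    (grsHom_of_isRegularHom (hG.2 (maximalIdeal A)))
  have hN : EGA4.IsNormalRing (EGA4.Cpl A) :=
    isNormalRing_iff_rs.mpr ((GRSHom.rs_cpl_iff A h).mp (isNormalRing_iff_rs.mp (normal_of_domain A)))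
  haveI := isDomain_of_isNormalRing_local hN
  exact ⟨inferInstance, isIntegrallyClosed_of_isNormalRing hN⟩

variable {T A : Type u} [CommRing T] [IsLocalRing T] [IsNoetherianRing T] [CommRing A] [IsLocalRing A]
  [IsNoetherianRing A] [Algebra T A] [IsLocalHom (algebraMap T A)]

/-- If `A/m_T A` is finite over `T`, a power of `m_A` is contained in `m_T A`. -/
theorem exists_pow_le (hf : ∃ (n : ℕ) (a : Fin n → A), ∀ x : A, ∃ c : Fin n → T,
      x - ∑ i, algebraMap T A (c i) * a i ∈ (maximalIdeal T).map (algebraMap T A)) :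
    ∃ k, maximalIdeal A ^ k ≤ (maximalIdeal T).map (algebraMap T A) := by
  set I := (maximalIdeal T).map (algebraMap T A) with hI
  letI : Algebra (T ⧸ maximalIdeal T) (A ⧸ I) := Ideal.Quotient.algebraQuotientOfLEComap Ideal.le_comap_map
  haveI : IsScalarTower T (T ⧸ maximalIdeal T) (A ⧸ I) := IsScalarTower.of_algebraMap_eq fun _ => rfl
  obtain ⟨n, a, ha⟩ := hf
  haveI : Module.Finite T (A ⧸ I) := by
    refine Module.Finite.of_surjective (Fintype.linearCombination T fun i => Ideal.Quotient.mk I (a i)) fun z => ?_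
    obtain ⟨x, rfl⟩ := Ideal.Quotient.mk_surjective z
    obtain ⟨c, hc⟩ := ha x
    refine ⟨c, ?_⟩
    rw [Fintype.linearCombination_apply]
    refine ((Ideal.Quotient.eq.mpr hc).trans ?_).symm
    rw [map_sum]
    refine Finset.sum_congr rfl fun i _ => ?_
    rw [map_mul, Algebra.smul_def]
    rfl
  letI : Field (T ⧸ maximalIdeal T) := Ideal.Quotient.field _
  haveI : Module.Finite (T ⧸ maximalIdeal T) (A ⧸ I) := Module.Finite.of_restrictScalars_finite T _ _
  haveI : IsArtinianRing (A ⧸ I) := IsArtinianRing.of_finite (T ⧸ maximalIdeal T) _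
  obtain ⟨k, hk⟩ := IsArtinianRing.isNilpotent_jacobson_bot (R := A ⧸ I)
  refine ⟨k, ?_⟩
  rw [← Ideal.mk_ker (I := I), RingHom.ker, ← Ideal.map_le_iff_le_comap, Ideal.map_pow, ← Ideal.zero_eq_bot, ← hk]
  refine Ideal.pow_right_mono (le_sInf fun M hM => ?_) k
  obtain ⟨-, hM⟩ := hM
  haveI := hM
  haveI := Ideal.comap_isMaximal_of_surjective (Ideal.Quotient.mk I) Ideal.Quotient.mk_surjective (K := M)
  rw [Ideal.map_le_iff_le_comap, IsLocalRing.eq_maximalIdeal ‹(M.comap (Ideal.Quotient.mk I)).IsMaximal›]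

omit [IsLocalRing T] [IsNoetherianRing T] [Algebra T A] [IsLocalHom (algebraMap T A)] in
/-- `A` is dense in its completion. -/
theorem exists_sub_mem_pow (k : ℕ) (y : EGA4.Cpl A) :
    ∃ x : A, y - algebraMap A (EGA4.Cpl A) x ∈ (maximalIdeal A ^ k).map (algebraMap A (EGA4.Cpl A)) := by
  induction k generalizing y with
  | zero => exact ⟨0, by rw [pow_zero, Ideal.one_eq_top, Ideal.map_top]; trivial⟩
  | succ k ih =>
    obtain ⟨x, hx⟩ := ih y
    suffices h : ∀ z ∈ (maximalIdeal A ^ k).map (algebraMap A (EGA4.Cpl A)),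
        ∃ x : A, z - algebraMap A (EGA4.Cpl A) x ∈ (maximalIdeal A ^ (k + 1)).map (algebraMap A (EGA4.Cpl A)) by
      obtain ⟨x', hx'⟩ := h _ hx
      exact ⟨x + x', by rwa [map_add, ← sub_sub]⟩
    intro z hz
    rw [Ideal.map] at hz
    induction hz using Submodule.span_induction with
    | mem w hw => obtain ⟨a, -, rfl⟩ := hw; exact ⟨a, by simp⟩
    | zero => exact ⟨0, by simp⟩
    | add u v _ _ hu hv =>
      obtain ⟨a, ha⟩ := hu
      obtain ⟨b, hb⟩ := hv
      exact ⟨a + b, by rw [map_add, add_sub_add_comm]; exact Ideal.add_mem _ ha hb⟩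
    | smul r u hu' hu =>
      obtain ⟨a, ha⟩ := hu
      have hu'' : u ∈ (maximalIdeal A ^ k).map (algebraMap A (EGA4.Cpl A)) := hu'
      obtain ⟨b, hb'⟩ := Ideal.Quotient.mk_surjective (AdicCompletion.evalOneₐ (maximalIdeal A) r)
      have hb : r - algebraMap A (EGA4.Cpl A) b ∈ maximalIdeal (EGA4.Cpl A) := by
        rw [AdicCompletion.maximalIdeal_eq_map,
          ← AdicCompletion.ker_evalOneₐ_eq_map _ (IsNoetherian.noetherian (maximalIdeal A)),
          RingHom.mem_ker, map_sub, sub_eq_zero]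
        exact hb'.symm.trans ((AdicCompletion.evalOneₐ (maximalIdeal A)).commutes b).symm
      refine ⟨b * a, ?_⟩
      rw [smul_eq_mul, map_mul, show r * u - algebraMap A (EGA4.Cpl A) b * algebraMap A (EGA4.Cpl A) a =
        (r - algebraMap A (EGA4.Cpl A) b) * u + algebraMap A (EGA4.Cpl A) b * (u - algebraMap A (EGA4.Cpl A) a) by ring]
      refine Ideal.add_mem _ ?_ (Ideal.mul_mem_left _ _ ha)
      rw [pow_succ', Ideal.map_mul, ← AdicCompletion.maximalIdeal_eq_map]
      exact Ideal.mul_mem_mul hb hu''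

/-- `A ⊗ T̂ → Â` is surjective when `A/m_T A` is finite over `T`. -/
theorem exists_span (φ : EGA4.Cpl T →+* EGA4.Cpl A)
    (hφ : ∀ t, φ (algebraMap T (EGA4.Cpl T) t) = algebraMap A (EGA4.Cpl A) (algebraMap T A t))
    (hf : ∃ (n : ℕ) (a : Fin n → A), ∀ x : A, ∃ c : Fin n → T,
      x - ∑ i, algebraMap T A (c i) * a i ∈ (maximalIdeal T).map (algebraMap T A)) :
    ∃ (n : ℕ) (a : Fin n → A), ∀ x : EGA4.Cpl A, ∃ c : Fin n → EGA4.Cpl T,
      x = ∑ i, φ (c i) * algebraMap A (EGA4.Cpl A) (a i) := by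
  haveI := isNoetherianRing_cpl T
  haveI := isNoetherianRing_cpl A
  letI : Algebra (EGA4.Cpl T) (EGA4.Cpl A) := φ.toAlgebra
  have hf₀ := hf
  obtain ⟨n, a, ha⟩ := hf
  refine ⟨n, a, ?_⟩
  have hle : (maximalIdeal (EGA4.Cpl T)).map φ ≤ maximalIdeal (EGA4.Cpl A) := by
    rw [AdicCompletion.maximalIdeal_eq_map, Ideal.map_map, Ideal.map_le_iff_le_comap]
    intro t ht
    rw [Ideal.mem_comap, RingHom.comp_apply, hφ, AdicCompletion.maximalIdeal_eq_map]
    exact Ideal.mem_map_of_mem _ (map_nonunit (algebraMap T A) t ht)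
  haveI : IsAdicComplete (maximalIdeal (EGA4.Cpl T)) (EGA4.Cpl T) := inferInstance
  haveI hH : IsHausdorff (maximalIdeal (EGA4.Cpl A)) (EGA4.Cpl A) := inferInstance
  have hpow : ∀ (k : ℕ) (y : EGA4.Cpl A), y ∈ ((maximalIdeal (EGA4.Cpl T)) ^ k • ⊤ : Submodule (EGA4.Cpl T) (EGA4.Cpl A)) →
      y ∈ ((maximalIdeal (EGA4.Cpl A)) ^ k • ⊤ : Submodule (EGA4.Cpl A) (EGA4.Cpl A)) := by
    intro k y hy
    simp only [smul_eq_mul, Ideal.mul_top]
    rw [Ideal.smul_top_eq_map] at hy
    have hy' : y ∈ ((maximalIdeal (EGA4.Cpl T)) ^ k).map φ := hy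
    rw [Ideal.map_pow] at hy'
    exact Ideal.pow_right_mono hle k hy'
  haveI : IsHausdorff (maximalIdeal (EGA4.Cpl T)) (EGA4.Cpl A) := ⟨fun y hy => hH.haus y fun k => by
    have := hy k
    rw [SModEq.zero] at this ⊢
    exact hpow k y this⟩
  have hmT : (maximalIdeal T).map ((algebraMap A (EGA4.Cpl A)).comp (algebraMap T A)) ≤
      (maximalIdeal (EGA4.Cpl T)).map φ := by
    rw [AdicCompletion.maximalIdeal_eq_map, Ideal.map_map, show φ.comp (algebraMap T (EGA4.Cpl T)) =
      (algebraMap A (EGA4.Cpl A)).comp (algebraMap T A) from RingHom.ext hφ]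
  have hspan := H24Adic.span_eq_top_of_sup_smul_eq_top (maximalIdeal (EGA4.Cpl T))
    (fun i => algebraMap A (EGA4.Cpl A) (a i)) <| eq_top_iff.mpr fun y _ => by
    obtain ⟨x, hx⟩ : ∃ x : A, y - algebraMap A (EGA4.Cpl A) x ∈ ((maximalIdeal T).map (algebraMap T A)).map
        (algebraMap A (EGA4.Cpl A)) := by
      obtain ⟨k, hk⟩ := exists_pow_le hf₀
      obtain ⟨x, hx⟩ := exists_sub_mem_pow (A := A) k y
      exact ⟨x, Ideal.map_mono hk hx⟩
    obtain ⟨c, hc⟩ := ha x
    refine Submodule.mem_sup.mpr ⟨∑ i, algebraMap T (EGA4.Cpl T) (c i) • algebraMap A (EGA4.Cpl A) (a i),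
      Submodule.sum_mem _ fun i _ => Submodule.smul_mem _ _ (Submodule.subset_span ⟨i, rfl⟩), _, ?_, add_sub_cancel _ y⟩
    rw [Ideal.smul_top_eq_map]
    have h1 := Ideal.mem_map_of_mem (algebraMap A (EGA4.Cpl A)) hc
    rw [Ideal.map_map] at h1 hx
    have h2 := Ideal.add_mem _ hx h1
    rw [map_sub, sub_add_sub_cancel] at h2
    have h3 := hmT h2
    simpa only [Submodule.restrictScalars_mem, Algebra.smul_def, RingHom.algebraMap_toAlgebra, hφ, map_sum, map_mul] using h3
  intro x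
  obtain ⟨c, hc⟩ := Submodule.mem_span_range_iff_exists_fun _ |>.mp (hspan ▸ Submodule.mem_top : x ∈ _)
  exact ⟨c, hc.symm.trans (Finset.sum_congr rfl fun i _ => Algebra.smul_def _ _)⟩

end Groth.Agent.H9Cpl
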