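import Groth.Agent.H9Cpl.Compositum

/-!
# Local rings of normalizations and their traces on subfields
-/

set_option autoImplicit false
set_option linter.style.haveILetI false
universe u
open IsLocalRing Groth.Agent Groth.Agent.H05EGA4

namespace Groth.Agent.H9Cpl

variable {R K M : Type u} [CommRing R] [IsDomain R] [IsIntegrallyClosed R] [IsNoetherianRing R]
  [Field K] [Algebra R K] [IsFractionRing R K] [Field M] [Algebra K M] [Algebra R M] [IsScalarTower R K M]
  [FiniteDimensional K M] [Algebra.IsSeparable K M]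

omit [IsDomain R] [IsNoetherianRing R] [IsIntegrallyClosed R] [IsFractionRing R K] [FiniteDimensional K M]
  [Algebra.IsSeparable K M] [IsScalarTower R K M] [Algebra K M] [Algebra R K] [Field K] in
theorem integralClosure_le (q : Ideal (integralClosure R M)) [q.IsPrime] (T : Subalgebra R M)
    (hT : ∀ z : M, z ∈ T ↔ ∃ a b : integralClosure R M, b ∉ q ∧ z * (b : M) = (a : M)) :
    integralClosure R M ≤ T := fun z hz =>
  (hT z).mpr ⟨⟨z, hz⟩, 1, fun h => (‹q.IsPrime›).ne_top ((Ideal.eq_top_iff_one q).mpr h), mul_one z⟩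

variable (K)

include K in
/-- Facts on the localization of a normalization at a prime. -/
theorem localization_facts (hG : CAlg.IsGRing R) (q : Ideal (integralClosure R M)) [q.IsPrime] (T : Subalgebra R M)
    (hT : ∀ z : M, z ∈ T ↔ ∃ a b : integralClosure R M, b ∉ q ∧ z * (b : M) = (a : M)) :
    IsNoetherianRing T ∧ IsIntegrallyClosed T ∧ CAlg.IsGRing T ∧ ringKrullDim T = (q.height : WithBot ℕ∞) ∧
      (∀ z : M, ∃ s t : T, t ≠ 0 ∧ z * (t : M) = s) ∧ IsFractionRing T M ∧
      (∀ z : integralClosure R M, z ∉ q → IsUnit (Subalgebra.inclusion (integralClosure_le q T hT) z)) := by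
  classical
  let D := integralClosure R M
  have hle := integralClosure_le q T hT
  haveI : Module.Finite R D := IsIntegralClosure.finite R K M D
  haveI : IsNoetherianRing D := IsNoetherianRing.of_finite R D
  haveI : IsFractionRing D M := integralClosure.isFractionRing_of_finite_extension K M
  haveI : IsIntegrallyClosed D := integralClosure.isIntegrallyClosedOfFiniteExtension K
  letI : Algebra D T := (Subalgebra.inclusion hle).toRingHom.toAlgebra
  haveI : IsScalarTower D T M := IsScalarTower.of_algebraMap_eq fun _ => rfl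
  have hu : ∀ b : D, b ∉ q → IsUnit (algebraMap D T b) := by
    intro b hb
    have hb0 : (b : M) ≠ 0 := fun h => hb (by rw [show b = 0 from Subtype.ext h]; exact q.zero_mem)
    have h1 : (b : M)⁻¹ ∈ T := (hT _).mpr ⟨1, b, hb, inv_mul_cancel₀ hb0⟩
    exact IsUnit.of_mul_eq_one (⟨_, h1⟩ : T) (Subtype.ext (mul_inv_cancel₀ hb0))
  haveI : IsLocalization.AtPrime T q := (isLocalization_iff q.primeCompl T).mpr
    ⟨fun b => hu b.1 b.2, fun z => by
      obtain ⟨a, b, hb, h⟩ := (hT z).mp z.2
      exact ⟨⟨a, ⟨b, hb⟩⟩, Subtype.ext h⟩, fun {x y} h => ⟨1, by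
        rw [Submonoid.coe_one, one_mul, one_mul]
        exact Subtype.ext (congrArg (Subtype.val : T → M) h)⟩⟩
  haveI : IsFractionRing T M := IsFractionRing.isFractionRing_of_isDomain_of_isLocalization q.primeCompl T M
  refine ⟨IsLocalization.isNoetherianRing q.primeCompl T inferInstance,
    isIntegrallyClosed_of_isLocalization T q.primeCompl q.primeCompl_le_nonZeroDivisors,
    isGRing_of_isLocalization q.primeCompl (isGRing_of_finiteType (R := R) (S := D) hG),
    IsLocalization.AtPrime.ringKrullDim_eq_height q T, fun z => ?_, inferInstance, hu⟩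
  obtain ⟨a, b, hb, rfl⟩ := IsFractionRing.div_surjective T z
  exact ⟨a, b, nonZeroDivisors.ne_zero hb, div_mul_cancel₀ _
    ((map_ne_zero_iff _ (IsFractionRing.injective T M)).mpr (nonZeroDivisors.ne_zero hb))⟩

variable {Ω : Type u} [Field Ω] [Algebra K Ω] [Algebra R Ω] [IsScalarTower R K Ω] [Algebra M Ω]
  [IsScalarTower K M Ω] [IsScalarTower R M Ω] [FiniteDimensional K Ω] [Algebra.IsSeparable K Ω]

include K in
omit [FiniteDimensional K Ω] [Algebra.IsSeparable K Ω] [IsScalarTower R K Ω] [Algebra K Ω] [IsScalarTower K M Ω] in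
/-- The trace of a local ring of the normalization on a subfield is a local ring of the normalization. -/
theorem mem_comap_iff (𝔪 : Ideal (integralClosure R Ω)) [𝔪.IsPrime] (A : Subalgebra R Ω)
    (hA : ∀ z : Ω, z ∈ A ↔ ∃ a b : integralClosure R Ω, b ∉ 𝔪 ∧ z * (b : Ω) = (a : Ω)) (z : M) :
    z ∈ Subalgebra.comap (IsScalarTower.toAlgHom R M Ω) A ↔
      ∃ a b : integralClosure R M, b ∉ 𝔪.comap (IsScalarTower.toAlgHom R M Ω).mapIntegralClosure.toRingHom ∧
        z * (b : M) = (a : M) := by
  classical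
  let D := integralClosure R M
  let C := integralClosure R Ω
  let i : D →+* C := (IsScalarTower.toAlgHom R M Ω).mapIntegralClosure.toRingHom
  have hi : ∀ d : D, ((i d : C) : Ω) = algebraMap M Ω d := fun d => rfl
  refine ⟨fun hz => ?_, fun ⟨a, b, hb, h⟩ => (hA _).mpr ⟨i a, i b, hb, ?_⟩⟩
  swap
  · show algebraMap M Ω z * _ = _
    rw [hi, hi, ← map_mul, h]
  haveI : Module.Finite R D := IsIntegralClosure.finite R K M D
  haveI : IsNoetherianRing D := IsNoetherianRing.of_finite R D
  haveI : IsFractionRing D M := integralClosure.isFractionRing_of_finite_extension K M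
  haveI : IsIntegrallyClosed D := integralClosure.isIntegrallyClosedOfFiniteExtension K
  letI : Algebra D C := i.toAlgebra
  haveI : FaithfulSMul D C := (faithfulSMul_iff_algebraMap_injective D C).mpr fun x y h =>
    Subtype.ext ((algebraMap M Ω).injective (by rw [← hi, ← hi]; exact congrArg Subtype.val h))
  haveI : IsScalarTower R D C := IsScalarTower.of_algebraMap_eq fun r => Subtype.ext (IsScalarTower.algebraMap_apply R M Ω r)
  haveI : Algebra.IsIntegral D C := Algebra.IsIntegral.tower_top R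
  let q := 𝔪.comap i
  let J : D → Ideal D := fun d =>
    { carrier := {e | IsIntegral R (((e : M) * d) * z)}
      add_mem' := fun {e f} he hf => by
        show IsIntegral R ((((e + f : D) : M) * d) * z)
        rw [Subalgebra.coe_add, add_mul, add_mul]
        exact he.add hf
      zero_mem' := by
        show IsIntegral R ((((0 : D) : M) * d) * z)
        rw [ZeroMemClass.coe_zero, zero_mul, zero_mul]
        exact isIntegral_zero
      smul_mem' := fun c e he => by
        show IsIntegral R ((((c * e : D) : M) * d) * z)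
        rw [Subalgebra.coe_mul, mul_assoc (c : M), mul_assoc]
        exact c.2.mul he }
  have hJ : ∀ d e : D, e ∈ J d ↔ IsIntegral R (((e : M) * d) * z) := fun _ _ => Iff.rfl
  by_contra hcon
  have hJ1 : J 1 ≤ q := fun e he => by
    by_contra he'
    refine hcon ⟨⟨_, he⟩, e, he', ?_⟩
    show z * (e : M) = (e : M) * ((1 : D) : M) * z
    rw [OneMemClass.coe_one, mul_one, mul_comm]
  obtain ⟨_, ⟨d, hd, rfl⟩, hmax⟩ := (wellFounded_gt (α := Ideal D)).has_min {I | ∃ d, J d ≤ q ∧ J d = I} ⟨_, 1, hJ1, rfl⟩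
  have hge : ∀ d', J d ≤ J d' → J d' ≤ q → J d' = J d := fun d' h1 h2 =>
    (eq_of_le_of_not_lt h1 (hmax _ ⟨d', h2, rfl⟩)).symm
  haveI hq : q.IsPrime := inferInstance
  haveI hp : (J d).IsPrime := by
    refine ⟨fun h => hq.ne_top (top_unique (h ▸ hd)), fun {e f} hef => or_iff_not_imp_left.mpr fun he => ?_⟩
    by_cases h2 : J (d * e) ≤ q
    · have := hge (d * e) (fun g hg => by
        rw [hJ] at hg ⊢
        rw [Subalgebra.coe_mul, show (g : M) * ((d : M) * e) * z = (e : M) * (((g : M) * d) * z) by ring]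
        exact e.2.mul hg) h2
      rw [← this, hJ, Subalgebra.coe_mul]
      rw [hJ, Subalgebra.coe_mul] at hef
      rwa [show (f : M) * ((d : M) * e) * z = (e : M) * f * d * z by ring]
    · obtain ⟨g, hg, hgq⟩ := SetLike.not_le_iff_exists.mp h2
      refine absurd ?_ he
      have h3 : J (g * d) ≤ q := fun h hh => by
        refine (hq.mem_or_mem (hd (?_ : h * g ∈ J d))).resolve_right hgq
        rw [hJ] at hh ⊢
        rw [Subalgebra.coe_mul] at hh ⊢
        rwa [show (h : M) * g * d * z = (h : M) * ((g : M) * d) * z by ring]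
      rw [← hge (g * d) (fun h hh => by
        rw [hJ] at hh ⊢
        rw [Subalgebra.coe_mul, show (h : M) * ((g : M) * d) * z = (g : M) * (((h : M) * d) * z) by ring]
        exact g.2.mul hh) h3, hJ, Subalgebra.coe_mul]
      rw [hJ, Subalgebra.coe_mul] at hg
      rwa [show (e : M) * ((g : M) * d) * z = (g : M) * ((d : M) * e) * z by ring]
  set w := (d : M) * z with hw
  have hpw : ∀ e : D, e ∈ J d ↔ IsIntegral R ((e : M) * w) := fun e => by rw [hJ, hw, mul_assoc]
  obtain ⟨P, hPm, hP, hPp⟩ : ∃ P ≤ 𝔪, P.IsPrime ∧ P.LiesOver (J d) :=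
    haveI : 𝔪.LiesOver q := ⟨rfl⟩
    Ideal.exists_ideal_le_liesOver_of_le 𝔪 hd
  obtain ⟨e, he, hew⟩ : ∃ e ∈ J d, ∀ f : D, (f : M) = (e : M) * w → f ∉ J d := by
    by_contra hall
    push Not at hall
    obtain ⟨s, t, ht, rfl⟩ := IsFractionRing.div_surjective D z
    have ht0 : (t : M) ≠ 0 := fun h => nonZeroDivisors.ne_zero ht (Subtype.ext h)
    have htJ : t ∈ J d := by
      rw [hJ]
      show IsIntegral R ((t : M) * d * ((s : M) / t))
      rw [show (t : M) * d * ((s : M) / t) = (d : M) * s by field_simp]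
      exact d.2.mul s.2
    let N : Submodule D M := Submodule.map (Algebra.linearMap D M) (J d)
    have hN : N ≠ ⊥ := fun h => ht0 ((Submodule.mem_bot D).mp (h ▸ (⟨t, htJ, rfl⟩ : (t : M) ∈ N)))
    have hint : IsIntegral D w := isIntegral_of_smul_mem_submodule N hN
      ((IsNoetherian.noetherian (J d)).map _) w fun n hn => by
        obtain ⟨e, he, rfl⟩ := hn
        obtain ⟨f, hf, hfJ⟩ := hall e he
        exact ⟨f, hfJ, hf.trans (mul_comm _ _)⟩
    obtain ⟨w', hw'⟩ := IsIntegrallyClosed.isIntegral_iff.mp hint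
    exact hq.ne_top ((Ideal.eq_top_iff_one q).mpr (hd ((hpw 1).mpr (by
      rw [OneMemClass.coe_one, one_mul, ← hw']
      exact w'.2))))
  let f : D := ⟨(e : M) * w, (hpw e).mp he⟩
  obtain ⟨a, b, hb, hab⟩ := (hA _).mp hz
  have heP : i e ∈ P := Ideal.mem_of_liesOver P (J d) e |>.mp he
  have hmul : i f * b = i e * (i d * a) := Subtype.ext (by
    show algebraMap M Ω ((e : M) * w) * (b : Ω) = algebraMap M Ω e * (algebraMap M Ω d * (a : Ω))
    rw [← hab, hw, map_mul, map_mul]
    show _ = algebraMap M Ω e * (algebraMap M Ω d * (algebraMap M Ω z * b))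
    ring)
  refine hew f rfl ((Ideal.mem_of_liesOver P (J d) f).mpr ?_)
  exact (hP.mem_or_mem (hmul ▸ P.mul_mem_right _ heP)).resolve_right fun h => hb (hPm h)

include K in
/-- Finiteness and dimension comparison for the trace on a subfield. -/
theorem comap_facts (hG : CAlg.IsGRing R) (𝔪 : Ideal (integralClosure R Ω)) [𝔪.IsMaximal] (A : Subalgebra R Ω)
    (hA : ∀ z : Ω, z ∈ A ↔ ∃ a b : integralClosure R Ω, b ∉ 𝔪 ∧ z * (b : Ω) = (a : Ω))
    [IsLocalRing A] [IsLocalRing (Subalgebra.comap (IsScalarTower.toAlgHom R M Ω) A)]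
    [Algebra (Subalgebra.comap (IsScalarTower.toAlgHom R M Ω) A) A]
    (hTA : ∀ t : Subalgebra.comap (IsScalarTower.toAlgHom R M Ω) A,
      ((algebraMap (Subalgebra.comap (IsScalarTower.toAlgHom R M Ω) A) A t : A) : Ω) = algebraMap M Ω (t : M)) :
    ringKrullDim (Subalgebra.comap (IsScalarTower.toAlgHom R M Ω) A) ≤ ringKrullDim A ∧
      ∃ (n : ℕ) (a : Fin n → A), ∀ x : A, ∃ c : Fin n → Subalgebra.comap (IsScalarTower.toAlgHom R M Ω) A,
        x - ∑ i, algebraMap _ A (c i) * a i ∈
          (maximalIdeal (Subalgebra.comap (IsScalarTower.toAlgHom R M Ω) A)).map (algebraMap _ A) := by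
  classical
  let D := integralClosure R M
  let C := integralClosure R Ω
  let i : D →+* C := (IsScalarTower.toAlgHom R M Ω).mapIntegralClosure.toRingHom
  let q := 𝔪.comap i
  have hT : ∀ z : M, z ∈ (Subalgebra.comap (IsScalarTower.toAlgHom R M Ω) A) ↔ ∃ a b : D, b ∉ q ∧ z * (b : M) = (a : M) := mem_comap_iff K 𝔪 A hA
  obtain ⟨-, -, -, hdimA, -, -, huA⟩ := localization_facts K hG 𝔪 A hA
  obtain ⟨-, -, -, hdimT, -, -, -⟩ := localization_facts K hG q (Subalgebra.comap (IsScalarTower.toAlgHom R M Ω) A) hT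
  haveI : Module.Finite R D := IsIntegralClosure.finite R K M D
  haveI : Module.Finite R C := IsIntegralClosure.finite R K Ω C
  haveI : IsNoetherianRing C := IsNoetherianRing.of_finite R C
  haveI : IsNoetherianRing D := IsNoetherianRing.of_finite R D
  haveI : IsIntegrallyClosed D := integralClosure.isIntegrallyClosedOfFiniteExtension K
  letI : Algebra D C := i.toAlgebra
  haveI : FaithfulSMul D C := (faithfulSMul_iff_algebraMap_injective D C).mpr fun x y h =>
    Subtype.ext ((algebraMap M Ω).injective (congrArg Subtype.val h :))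
  haveI : IsScalarTower R D C := IsScalarTower.of_algebraMap_eq fun r => Subtype.ext (IsScalarTower.algebraMap_apply R M Ω r)
  haveI : Algebra.IsIntegral D C := Algebra.IsIntegral.tower_top R
  haveI : Module.Finite D C := Module.Finite.of_restrictScalars_finite R D C
  haveI : 𝔪.LiesOver q := ⟨rfl⟩
  haveI : q.IsMaximal := Ideal.isMaximal_comap_of_isIntegral_of_isMaximal (R := D) 𝔪
  refine ⟨?_, ?_⟩
  · rw [hdimT, hdimA]
    refine WithBot.coe_le_coe.mpr ?_
    rw [Ideal.height_eq_height_add_of_liesOver_of_hasGoingDown q 𝔪]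
    exact le_self_add
  let qC := q.map i
  letI : Field (D ⧸ q) := Ideal.Quotient.field q
  letI : Algebra (D ⧸ q) (C ⧸ qC) := Ideal.Quotient.algebraQuotientOfLEComap Ideal.le_comap_map
  haveI : IsScalarTower D (D ⧸ q) (C ⧸ qC) := IsScalarTower.of_algebraMap_eq fun _ => rfl
  haveI : Module.Finite (D ⧸ q) (C ⧸ qC) := Module.Finite.of_restrictScalars_finite D _ _
  haveI : IsArtinianRing (C ⧸ qC) := IsArtinianRing.of_finite (D ⧸ q) _
  obtain ⟨n, g, hg⟩ := Module.Finite.exists_fin (R := D) (M := C)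
  let jC : C →+* A := (Subalgebra.inclusion (integralClosure_le 𝔪 A hA)).toRingHom
  let jD : D →+* (Subalgebra.comap (IsScalarTower.toAlgHom R M Ω) A) := (Subalgebra.inclusion (integralClosure_le q (Subalgebra.comap (IsScalarTower.toAlgHom R M Ω) A) hT)).toRingHom
  have hjj : ∀ d, algebraMap (Subalgebra.comap (IsScalarTower.toAlgHom R M Ω) A) A (jD d) = jC (i d) := fun d => Subtype.ext (hTA _)
  refine ⟨n, fun k => jC (g k), fun x => ?_⟩
  obtain ⟨a, b, hb, hab⟩ := (hA x).mp x.2
  obtain ⟨N, y, hy⟩ : ∃ (N : ℕ) (y : C), b ^ N * (1 - b * y) ∈ qC := by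
    obtain ⟨N, y', hy'⟩ := IsArtinian.exists_pow_succ_smul_dvd (M := C ⧸ qC) (Ideal.Quotient.mk qC b) (1 : C ⧸ qC)
    obtain ⟨y, rfl⟩ := Ideal.Quotient.mk_surjective y'
    refine ⟨N, y, Ideal.Quotient.eq_zero_iff_mem.mp ?_⟩
    rw [smul_eq_mul, smul_eq_mul, mul_one] at hy'
    rw [map_mul, map_sub, map_one, map_pow, map_mul, mul_sub, mul_one, ← mul_assoc, ← pow_succ, hy', sub_self]
  obtain ⟨c, hc⟩ := Submodule.mem_span_range_iff_exists_fun D |>.mp (hg ▸ Submodule.mem_top : a * y ∈ _)
  refine ⟨fun k => jD (c k), ?_⟩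
  have hsum : ∑ k, algebraMap (Subalgebra.comap (IsScalarTower.toAlgHom R M Ω) A) A (jD (c k)) * jC (g k) = jC (a * y) := by
    rw [← hc, map_sum]
    refine Finset.sum_congr rfl fun k _ => ?_
    rw [hjj, Algebra.smul_def, map_mul]
    rfl
  rw [hsum]
  have hq : qC.map jC ≤ (maximalIdeal (Subalgebra.comap (IsScalarTower.toAlgHom R M Ω) A)).map (algebraMap (Subalgebra.comap (IsScalarTower.toAlgHom R M Ω) A) A) := by
    rw [Ideal.map_map, show jC.comp i = (algebraMap (Subalgebra.comap (IsScalarTower.toAlgHom R M Ω) A) A).comp jD from RingHom.ext fun d => (hjj d).symm, ← Ideal.map_map]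
    refine Ideal.map_mono (Ideal.map_le_iff_le_comap.mpr fun d hd => ?_)
    rw [Ideal.mem_comap, IsLocalRing.mem_maximalIdeal]
    intro hu
    obtain ⟨⟨v, hv⟩, hv1⟩ := hu.exists_right_inv
    obtain ⟨s, t, ht, hst⟩ := (hT v).mp hv
    have h1 : (d : M) * v = 1 := congrArg Subtype.val hv1
    have h2 : t = d * s := Subtype.ext (by
      rw [Subalgebra.coe_mul, ← hst, ← mul_assoc, h1, one_mul])
    exact ht (h2 ▸ q.mul_mem_right s hd)
  have hb' : IsUnit (jC b) := huA b hb
  have hxb : x * jC b = jC a := Subtype.ext hab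
  obtain ⟨u, hu⟩ := (hb'.pow (N + 1)).exists_right_inv
  have key : x - jC (a * y) = u * jC a * jC (b ^ N * (1 - b * y)) := by
    rw [map_mul, map_mul, map_sub, map_one, map_mul, map_pow]
    linear_combination (jC a * jC y - x) * hu + (u * jC b ^ N) * hxb
  rw [key]
  exact hq ((Ideal.mul_mem_left _ _ (Ideal.mem_map_of_mem jC hy)))

end Groth.Agent.H9Cpl
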