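import Groth.Agent.H9Cpl.Basic
import Groth.Agent.H05EGA4.CodepthLocal

/-!
# Maps of completions which are birational
-/

set_option autoImplicit false
set_option linter.style.haveILetI false
universe u
open IsLocalRing Groth.Agent Groth.Agent.H05EGA4

namespace Groth.Agent.H9Cpl

/-- Elements of a ring inside a field generated by quotients are quotients. -/
theorem exists_mul_eq {A B Ω : Type u} [CommRing A] [IsDomain A] [CommRing B] [IsDomain B] [Field Ω] [Algebra A Ω]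
    [IsFractionRing A Ω] (j : A →+* B) (hj : Function.Injective j) (Sb : Subring B) (W : Set Ω)
    (hW : Subfield.closure W = ⊤)
    (hWf : ∀ ω ∈ W, ∃ s t : A, t ≠ 0 ∧ ω * algebraMap A Ω t = algebraMap A Ω s ∧
      (∃ a b : B, a ∈ Sb ∧ b ∈ Sb ∧ b ≠ 0 ∧ j s * b = a) ∧ (∃ a b : B, a ∈ Sb ∧ b ∈ Sb ∧ b ≠ 0 ∧ j t * b = a))
    (x : A) : ∃ a b : B, a ∈ Sb ∧ b ∈ Sb ∧ b ≠ 0 ∧ j x * b = a := by
  classical
  let F := FractionRing B
  have hinj := IsFractionRing.injective B F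
  have hjF : Function.Injective ((algebraMap B F).comp j) := hinj.comp hj
  let ψ : Ω →+* F := IsFractionRing.lift hjF
  have hψ : ∀ y, ψ (algebraMap A Ω y) = algebraMap B F (j y) := fun y => IsFractionRing.lift_algebraMap hjF y
  let G : Subfield F := Subfield.closure (Sb.map (algebraMap B F) : Set F)
  have hP : ∀ y : B, (∃ a b : B, a ∈ Sb ∧ b ∈ Sb ∧ b ≠ 0 ∧ y * b = a) → algebraMap B F y ∈ G := by
    rintro y ⟨a, b, ha, hb, hb0, rfl⟩
    have h : algebraMap B F y = algebraMap B F (y * b) / algebraMap B F b := by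
      rw [map_mul, mul_div_assoc, div_self ((map_ne_zero_iff _ hinj).mpr hb0), mul_one]
    rw [h]
    exact G.div_mem (Subfield.subset_closure ⟨_, ha, rfl⟩) (Subfield.subset_closure ⟨_, hb, rfl⟩)
  have hle : Subfield.closure W ≤ G.comap ψ := Subfield.closure_le.mpr fun ω hω => by
    obtain ⟨s, t, ht, h, hs, ht'⟩ := hWf ω hω
    have h' : ω = algebraMap A Ω s / algebraMap A Ω t := by
      rw [← h, mul_div_assoc, div_self ((map_ne_zero_iff _ (IsFractionRing.injective A Ω)).mpr ht), mul_one]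
    show ψ ω ∈ G
    rw [h', map_div₀, hψ, hψ]
    exact G.div_mem (hP _ hs) (hP _ ht')
  have hx : ψ (algebraMap A Ω x) ∈ G := hle (hW.symm ▸ Subfield.mem_top _)
  rw [hψ] at hx
  obtain ⟨c, hc, d, hd, hcd⟩ := Subfield.mem_closure_iff.mp hx
  rw [Subring.closure_eq] at hc hd
  obtain ⟨a, ha, rfl⟩ := hc
  obtain ⟨b, hb, rfl⟩ := hd
  rcases eq_or_ne b 0 with rfl | hb0
  · rw [map_zero, div_zero] at hcd
    refine ⟨0, 1, Sb.zero_mem, Sb.one_mem, one_ne_zero, ?_⟩
    rw [mul_one]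
    exact hinj (hcd.symm.trans (map_zero _).symm)
  · refine ⟨a, b, ha, hb, hb0, hinj ?_⟩
    rw [map_mul, ← hcd, div_mul_cancel₀ _ ((map_ne_zero_iff _ hinj).mpr hb0)]

variable {T A : Type u} [CommRing T] [IsLocalRing T] [IsNoetherianRing T] [CommRing A] [IsLocalRing A]
  [IsNoetherianRing A] [Algebra T A] [IsLocalHom (algebraMap T A)] [IsDomain (EGA4.Cpl A)]

/-- Every element of `Â` is a quotient in `Sb` when the elements of `A` are. -/
theorem exists_mul_eq_cpl (φ : EGA4.Cpl T →+* EGA4.Cpl A)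
    (hφ : ∀ t, φ (algebraMap T (EGA4.Cpl T) t) = algebraMap A (EGA4.Cpl A) (algebraMap T A t))
    (hf : ∃ (n : ℕ) (a : Fin n → A), ∀ x : A, ∃ c : Fin n → T,
      x - ∑ i, algebraMap T A (c i) * a i ∈ (maximalIdeal T).map (algebraMap T A))
    (Sb : Subring (EGA4.Cpl A)) (hSb : ∀ c, φ c ∈ Sb)
    (hA : ∀ x : A, ∃ a b, a ∈ Sb ∧ b ∈ Sb ∧ b ≠ 0 ∧ algebraMap A (EGA4.Cpl A) x * b = a)
    (x : EGA4.Cpl A) : ∃ a b, a ∈ Sb ∧ b ∈ Sb ∧ b ≠ 0 ∧ x * b = a := by
  classical
  obtain ⟨n, e, he⟩ := exists_span φ hφ hf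
  obtain ⟨c, rfl⟩ := he x
  choose a b ha hb hb0 hab using fun i => hA (e i)
  refine ⟨∑ i, φ (c i) * a i * ∏ j ∈ Finset.univ.erase i, b j, ∏ i, b i,
    Subring.sum_mem _ fun i _ => Sb.mul_mem (Sb.mul_mem (hSb _) (ha i)) (Subring.prod_mem _ fun j _ => hb j),
    Subring.prod_mem _ fun i _ => hb i, Finset.prod_ne_zero_iff.mpr fun i _ => hb0 i, ?_⟩
  rw [Finset.sum_mul]
  refine Finset.sum_congr rfl fun i _ => ?_
  rw [← Finset.mul_prod_erase _ b (Finset.mem_univ i), ← hab i]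
  ring

/-- A birational finite map onto a completion of the same dimension is surjective. -/
theorem surjective_of_birational [IsDomain (EGA4.Cpl T)] [IsIntegrallyClosed (EGA4.Cpl T)]
    (φ : EGA4.Cpl T →+* EGA4.Cpl A)
    (hφ : ∀ t, φ (algebraMap T (EGA4.Cpl T) t) = algebraMap A (EGA4.Cpl A) (algebraMap T A t))
    (hf : ∃ (n : ℕ) (a : Fin n → A), ∀ x : A, ∃ c : Fin n → T,
      x - ∑ i, algebraMap T A (c i) * a i ∈ (maximalIdeal T).map (algebraMap T A))
    (hdim : ringKrullDim T ≤ ringKrullDim A)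
    (hA : ∀ x : A, ∃ a b, a ∈ φ.range ∧ b ∈ φ.range ∧ b ≠ 0 ∧ algebraMap A (EGA4.Cpl A) x * b = a) :
    Function.Surjective φ := by
  haveI := isNoetherianRing_cpl T
  letI : Algebra (EGA4.Cpl T) (EGA4.Cpl A) := φ.toAlgebra
  haveI : Module.Finite (EGA4.Cpl T) (EGA4.Cpl A) := by
    obtain ⟨n, e, he⟩ := exists_span φ hφ hf
    refine Module.Finite.of_surjective (Fintype.linearCombination (EGA4.Cpl T) fun i => algebraMap A (EGA4.Cpl A) (e i))
      fun x => ?_
    obtain ⟨c, hc⟩ := he x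
    exact ⟨c, ((Fintype.linearCombination_apply _ _ _).trans
      (Finset.sum_congr rfl fun i _ => Algebra.smul_def _ _)).trans hc.symm⟩
  haveI : Algebra.IsIntegral (EGA4.Cpl T) (EGA4.Cpl A) := Algebra.IsIntegral.of_finite _ _
  have hinj : Function.Injective φ := by
    by_contra hne
    obtain ⟨r, hr, hr0⟩ : ∃ r, φ r = 0 ∧ r ≠ 0 := by
      by_contra h
      push Not at h
      exact hne ((injective_iff_map_eq_zero φ).mpr h)
    letI : Algebra (EGA4.Cpl T ⧸ Ideal.span {r}) (EGA4.Cpl A) := (Ideal.Quotient.lift (Ideal.span {r}) φ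
      fun y hy => by
        obtain ⟨w, rfl⟩ := Ideal.mem_span_singleton'.mp hy
        rw [map_mul, hr, mul_zero]).toAlgebra
    haveI : IsScalarTower (EGA4.Cpl T) (EGA4.Cpl T ⧸ Ideal.span {r}) (EGA4.Cpl A) :=
      IsScalarTower.of_algebraMap_eq fun _ => rfl
    haveI : Algebra.IsIntegral (EGA4.Cpl T ⧸ Ideal.span {r}) (EGA4.Cpl A) := Algebra.IsIntegral.tower_top (EGA4.Cpl T)
    have h1 : ringKrullDim (EGA4.Cpl A) ≤ ringKrullDim (EGA4.Cpl T ⧸ Ideal.span {r}) :=
      H26Grass.ringKrullDim_le_of_integral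
    have h2 := ringKrullDim_quotient_succ_le_of_nonZeroDivisor (mem_nonZeroDivisors_of_ne_zero hr0)
    have h3 : ringKrullDim (EGA4.Cpl T) ≤ ringKrullDim (EGA4.Cpl A) := by
      rw [ringKrullDim_adicCompletion, ringKrullDim_adicCompletion]
      exact hdim
    have h4 := h2.trans (h3.trans h1)
    have hnt : Nontrivial (EGA4.Cpl T ⧸ Ideal.span {r}) := by
      refine Ideal.Quotient.nontrivial_iff.mpr fun ht => ?_
      exact one_ne_zero (α := EGA4.Cpl A) (by
        obtain ⟨w, hw⟩ := Ideal.mem_span_singleton'.mp (ht ▸ Submodule.mem_top : (1 : EGA4.Cpl T) ∈ _)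
        rw [← map_one φ, ← hw, map_mul, hr, mul_zero])
    obtain ⟨d, hd⟩ : ∃ d : ℕ, ringKrullDim (EGA4.Cpl T ⧸ Ideal.span {r}) = d := by
      haveI : IsLocalRing (EGA4.Cpl T ⧸ Ideal.span {r}) :=
        IsLocalRing.of_surjective' (Ideal.Quotient.mk _) Ideal.Quotient.mk_surjective
      exact exists_nat_ringKrullDim (EGA4.Cpl T ⧸ Ideal.span {r})
    rw [hd] at h4
    have h5 : ((d + 1 : ℕ) : WithBot ℕ∞) ≤ (d : ℕ) := by exact_mod_cast h4
    have h6 : d + 1 ≤ d := by exact_mod_cast h5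
    omega
  intro x
  obtain ⟨a, b, ⟨a', rfl⟩, ⟨b', rfl⟩, hb0, hab⟩ := exists_mul_eq_cpl φ hφ hf φ.range (fun c => ⟨c, rfl⟩) hA x
  let F := FractionRing (EGA4.Cpl T)
  let E := FractionRing (EGA4.Cpl A)
  have hinjE : Function.Injective (algebraMap (EGA4.Cpl T) E) := by
    rw [IsScalarTower.algebraMap_eq (EGA4.Cpl T) (EGA4.Cpl A) E]
    exact (IsFractionRing.injective (EGA4.Cpl A) E).comp hinj
  let J : F →ₐ[EGA4.Cpl T] E := IsFractionRing.liftAlgHom (K := F) (g := Algebra.ofId (EGA4.Cpl T) E) hinjE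
  let y : F := algebraMap _ F a' / algebraMap _ F b'
  have hJy : J y = algebraMap (EGA4.Cpl A) E x := by
    have hb0' : algebraMap (EGA4.Cpl A) E (φ b') ≠ 0 := (map_ne_zero_iff _ (IsFractionRing.injective _ E)).mpr hb0
    rw [map_div₀, J.commutes, J.commutes]
    rw [IsScalarTower.algebraMap_apply (EGA4.Cpl T) (EGA4.Cpl A) E, IsScalarTower.algebraMap_apply (EGA4.Cpl T) (EGA4.Cpl A) E]
    show algebraMap (EGA4.Cpl A) E (φ a') / algebraMap (EGA4.Cpl A) E (φ b') = _
    rw [div_eq_iff hb0', ← map_mul, hab]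
  have hy : IsIntegral (EGA4.Cpl T) y := (isIntegral_algHom_iff J J.toRingHom.injective).mp
    (hJy ▸ (Algebra.IsIntegral.isIntegral (R := EGA4.Cpl T) x).algebraMap)
  obtain ⟨z, hz⟩ := IsIntegrallyClosed.isIntegral_iff.mp hy
  refine ⟨z, IsFractionRing.injective _ E ?_⟩
  rw [← hJy, ← hz, J.commutes, IsScalarTower.algebraMap_apply (EGA4.Cpl T) (EGA4.Cpl A) E]
  rfl

/-- Surjectivity on completions gives an unramified map with trivial residue extension. -/
theorem unramified_of_surjective (φ : EGA4.Cpl T →+* EGA4.Cpl A)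
    (hφ : ∀ t, φ (algebraMap T (EGA4.Cpl T) t) = algebraMap A (EGA4.Cpl A) (algebraMap T A t))
    (hsurj : Function.Surjective φ) :
    (maximalIdeal T).map (algebraMap T A) = maximalIdeal A ∧
      ∀ x : A, ∃ t : T, x - algebraMap T A t ∈ maximalIdeal A := by
  haveI := faithfullyFlat_cpl A
  have key : ∀ x : A, ∃ t : T, x - algebraMap T A t ∈ (maximalIdeal T).map (algebraMap T A) := by
    intro x
    obtain ⟨c, hc⟩ := hsurj (algebraMap A (EGA4.Cpl A) x)
    obtain ⟨t, ht⟩ := exists_sub_mem_pow (A := T) 1 c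
    refine ⟨t, ?_⟩
    rw [← Ideal.comap_map_eq_self_of_faithfullyFlat (B := EGA4.Cpl A) ((maximalIdeal T).map (algebraMap T A)),
      Ideal.mem_comap, Ideal.map_map, map_sub, ← hc, ← hφ, ← map_sub,
      ← show φ.comp (algebraMap T (EGA4.Cpl T)) = (algebraMap A (EGA4.Cpl A)).comp (algebraMap T A) from
        RingHom.ext hφ, ← Ideal.map_map]
    rw [pow_one] at ht
    exact Ideal.mem_map_of_mem φ ht
  have hle : (maximalIdeal T).map (algebraMap T A) ≤ maximalIdeal A := by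
    rw [Ideal.map_le_iff_le_comap]
    intro t ht
    exact map_nonunit (algebraMap T A) t ht
  refine ⟨le_antisymm hle fun x hx => ?_, fun x => (key x).imp fun t ht => hle ht⟩
  obtain ⟨t, ht⟩ := key x
  by_cases htu : IsUnit t
  · refine absurd ?_ ((IsLocalRing.mem_maximalIdeal _).mp ((sub_sub_cancel x (algebraMap T A t)) ▸
      (maximalIdeal A).sub_mem hx (hle ht)))
    exact htu.map (algebraMap T A)
  · simpa using Ideal.add_mem _ ht (Ideal.mem_map_of_mem (algebraMap T A) ((IsLocalRing.mem_maximalIdeal t).mpr htu))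

end Groth.Agent.H9Cpl
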