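import Mathlib

/-!
# A trivial residue field extension
-/

set_option autoImplicit false
universe u
open IsLocalRing

namespace Groth.Agent.H9Cpl

theorem residue_finite_separable {T A : Type u} [CommRing T] [IsLocalRing T] [CommRing A] [IsLocalRing A] [Algebra T A]
    [(maximalIdeal A).LiesOver (maximalIdeal T)] (h : ∀ x : A, ∃ t : T, x - algebraMap T A t ∈ maximalIdeal A) :
    Module.Finite (T ⧸ maximalIdeal T) (A ⧸ maximalIdeal A) ∧
      Algebra.IsSeparable (T ⧸ maximalIdeal T) (A ⧸ maximalIdeal A) := by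
  have hs : Function.Surjective (algebraMap (T ⧸ maximalIdeal T) (A ⧸ maximalIdeal A)) := fun z => by
    obtain ⟨x, rfl⟩ := Ideal.Quotient.mk_surjective z
    obtain ⟨t, ht⟩ := h x
    exact ⟨Ideal.Quotient.mk _ t, (Ideal.Quotient.eq.mpr ht).symm⟩
  refine ⟨Module.Finite.of_surjective (Algebra.linearMap _ _) hs, ⟨fun z => ?_⟩⟩
  obtain ⟨y, rfl⟩ := hs z
  letI : Field (T ⧸ maximalIdeal T) := Ideal.Quotient.field _
  exact isSeparable_algebraMap y

end Groth.Agent.H9Cpl
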