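import Groth.Agent.H9Cpl.Comap
import Groth.Agent.H9Cpl.Residue

/-!
# Completion of a local ring of a compositum
-/

set_option autoImplicit false
set_option linter.style.haveILetI false
universe u
open IsLocalRing Groth.Agent Groth.Agent.H05EGA4

namespace Groth.Agent.H9Cpl

variable {K L M Ω : Type u} [Field K] [Field L] [Field M] [Field Ω] [Algebra K L] [Algebra K M] [Algebra K Ω]
  [Algebra L Ω] [Algebra M Ω] [IsScalarTower K L Ω] [IsScalarTower K M Ω]

theorem closure_union_eq_top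
    (hΩ : IntermediateField.adjoin K (Set.range (algebraMap L Ω) ∪ Set.range (algebraMap M Ω)) = ⊤) :
    Subfield.closure (Set.range (algebraMap L Ω) ∪ Set.range (algebraMap M Ω)) = ⊤ := by
  refine eq_top_iff.mpr ?_
  have h := congrArg IntermediateField.toSubfield hΩ
  rw [IntermediateField.adjoin_toSubfield, IntermediateField.top_toSubfield] at h
  rw [← h]
  refine Subfield.closure_mono (Set.union_subset ?_ le_rfl)
  rintro _ ⟨k, rfl⟩
  exact Or.inl ⟨algebraMap K L k, (IsScalarTower.algebraMap_apply K L Ω k).symm⟩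

theorem finite_separable [FiniteDimensional K L] [FiniteDimensional K M] [Algebra.IsSeparable K L]
    [Algebra.IsSeparable K M]
    (hΩ : IntermediateField.adjoin K (Set.range (algebraMap L Ω) ∪ Set.range (algebraMap M Ω)) = ⊤) :
    FiniteDimensional K Ω ∧ Algebra.IsSeparable K Ω := by
  let fL := IsScalarTower.toAlgHom K L Ω
  let fM := IsScalarTower.toAlgHom K M Ω
  have h : fL.fieldRange ⊔ fM.fieldRange = ⊤ := by
    rw [← top_le_iff, ← hΩ, IntermediateField.adjoin_le_iff, Set.union_subset_iff]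
    exact ⟨fun x hx => (le_sup_left : fL.fieldRange ≤ _) hx, fun x hx => (le_sup_right : fM.fieldRange ≤ _) hx⟩
  haveI : FiniteDimensional K fL.fieldRange := (AlgEquiv.ofInjectiveField fL).toLinearEquiv.finiteDimensional
  haveI : FiniteDimensional K fM.fieldRange := (AlgEquiv.ofInjectiveField fM).toLinearEquiv.finiteDimensional
  haveI : Algebra.IsSeparable K fL.fieldRange := Algebra.IsSeparable.of_algHom K L (AlgEquiv.ofInjectiveField fL).symm.toAlgHom
  haveI : Algebra.IsSeparable K fM.fieldRange := Algebra.IsSeparable.of_algHom K M (AlgEquiv.ofInjectiveField fM).symm.toAlgHom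
  haveI : FiniteDimensional K ((⊤ : IntermediateField K Ω)) := h ▸ IntermediateField.finiteDimensional_sup _ _
  haveI : Algebra.IsSeparable K ((⊤ : IntermediateField K Ω)) := h ▸ (IntermediateField.isSeparable_sup K Ω fL.fieldRange fM.fieldRange)
  exact ⟨IntermediateField.topEquiv.toLinearEquiv.finiteDimensional,
    Algebra.IsSeparable.of_algHom K _ IntermediateField.topEquiv.symm.toAlgHom⟩

variable {R : Type u} [CommRing R] [IsDomain R] [IsLocalRing R] [IsIntegrallyClosed R] [Algebra R K]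
  [IsFractionRing R K] [FiniteDimensional K L] [FiniteDimensional K M] [Algebra.IsSeparable K L]
  [Algebra.IsSeparable K M] [Algebra R L] [Algebra R M] [Algebra R Ω] [IsScalarTower R K L] [IsScalarTower R K M]
  [IsScalarTower R K Ω] [IsScalarTower R L Ω] [IsScalarTower R M Ω]
  (hR : EGA4.IsExcellent R)
  (hΩ : IntermediateField.adjoin K (Set.range (algebraMap L Ω) ∪ Set.range (algebraMap M Ω)) = ⊤)
  (𝔪 : Ideal (integralClosure R Ω)) [𝔪.IsMaximal] (A : Subalgebra R Ω)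
  (hA : ∀ z : Ω, z ∈ A ↔ ∃ a b : integralClosure R Ω, b ∉ 𝔪 ∧ z * (b : Ω) = (a : Ω))
  [IsLocalRing A] [IsLocalRing (Subalgebra.comap (IsScalarTower.toAlgHom R L Ω) A)]
  [IsLocalRing (Subalgebra.comap (IsScalarTower.toAlgHom R M Ω) A)]
  [Algebra (Subalgebra.comap (IsScalarTower.toAlgHom R L Ω) A) A]
  (hSA : ∀ s : Subalgebra.comap (IsScalarTower.toAlgHom R L Ω) A,
    ((algebraMap (Subalgebra.comap (IsScalarTower.toAlgHom R L Ω) A) A s : A) : Ω) = algebraMap L Ω (s : L))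
  [Algebra (Subalgebra.comap (IsScalarTower.toAlgHom R M Ω) A) A]
  (hTA : ∀ t : Subalgebra.comap (IsScalarTower.toAlgHom R M Ω) A,
    ((algebraMap (Subalgebra.comap (IsScalarTower.toAlgHom R M Ω) A) A t : A) : Ω) = algebraMap M Ω (t : M))
  [(maximalIdeal A).LiesOver (maximalIdeal (Subalgebra.comap (IsScalarTower.toAlgHom R M Ω) A))]
  (φS : EGA4.Cpl (Subalgebra.comap (IsScalarTower.toAlgHom R L Ω) A) →+* EGA4.Cpl A)
  (hφS : ∀ s : Subalgebra.comap (IsScalarTower.toAlgHom R L Ω) A,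
    φS (algebraMap _ (EGA4.Cpl _) s) = algebraMap A (EGA4.Cpl A) (algebraMap _ A s))
  (φ : EGA4.Cpl (Subalgebra.comap (IsScalarTower.toAlgHom R M Ω) A) →+* EGA4.Cpl A)
  (hφ : ∀ t : Subalgebra.comap (IsScalarTower.toAlgHom R M Ω) A,
    φ (algebraMap _ (EGA4.Cpl _) t) = algebraMap A (EGA4.Cpl A) (algebraMap _ A t))

include hR hΩ hA hSA hTA hφS hφ in
theorem setup :
    ∃ _ : IsNoetherianRing A, ∃ _ : IsDomain (EGA4.Cpl A),
      ∃ _ : IsNoetherianRing (Subalgebra.comap (IsScalarTower.toAlgHom R M Ω) A),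
      ∃ _ : IsLocalHom (algebraMap (Subalgebra.comap (IsScalarTower.toAlgHom R M Ω) A) A),
      (∃ _ : IsDomain (EGA4.Cpl (Subalgebra.comap (IsScalarTower.toAlgHom R M Ω) A)),
          IsIntegrallyClosed (EGA4.Cpl (Subalgebra.comap (IsScalarTower.toAlgHom R M Ω) A))) ∧
      ringKrullDim (Subalgebra.comap (IsScalarTower.toAlgHom R M Ω) A) ≤ ringKrullDim A ∧
      (∃ (n : ℕ) (a : Fin n → A), ∀ x : A, ∃ c : Fin n → Subalgebra.comap (IsScalarTower.toAlgHom R M Ω) A,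
        x - ∑ i, algebraMap _ A (c i) * a i ∈
          (maximalIdeal (Subalgebra.comap (IsScalarTower.toAlgHom R M Ω) A)).map (algebraMap _ A)) ∧
      ∀ Sb : Subring (EGA4.Cpl A), (∀ c, φ c ∈ Sb) →
        (∀ s, ∃ a b, a ∈ Sb ∧ b ∈ Sb ∧ b ≠ 0 ∧ φS s * b = a) →
        ∀ x : A, ∃ a b, a ∈ Sb ∧ b ∈ Sb ∧ b ≠ 0 ∧ algebraMap A (EGA4.Cpl A) x * b = a := by
  haveI := hR.1
  have hG : CAlg.IsGRing R := hR.2.2.1
  obtain ⟨_, _⟩ := finite_separable hΩ
  let i := (IsScalarTower.toAlgHom R M Ω).mapIntegralClosure.toRingHom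
  let j := (IsScalarTower.toAlgHom R L Ω).mapIntegralClosure.toRingHom
  obtain ⟨hAn, hAc, hAG, -, -, hAf, -⟩ := localization_facts K hG 𝔪 A hA
  obtain ⟨hTn, hTc, hTG, -, hTfr, -, -⟩ := localization_facts K hG (𝔪.comap i)
    (Subalgebra.comap (IsScalarTower.toAlgHom R M Ω) A) (mem_comap_iff K 𝔪 A hA)
  obtain ⟨-, -, -, -, hSfr, -, -⟩ := localization_facts K hG (𝔪.comap j)
    (Subalgebra.comap (IsScalarTower.toAlgHom R L Ω) A) (mem_comap_iff K 𝔪 A hA)
  haveI := hAn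
  haveI := hAc
  haveI := hAf
  haveI := hTn
  haveI := hTc
  haveI : IsLocalHom (algebraMap (Subalgebra.comap (IsScalarTower.toAlgHom R M Ω) A) A) :=
    ((local_hom_TFAE _).out 0 4).mpr ((maximalIdeal A).over_def (maximalIdeal _)).symm
  obtain ⟨hd, -⟩ := isDomain_cpl hAG
  haveI := hd
  obtain ⟨hdim, hf⟩ := comap_facts K hG 𝔪 A hA hTA
  refine ⟨inferInstance, inferInstance, inferInstance, inferInstance, isDomain_cpl hTG, hdim, hf,
    fun Sb hSb hSbS x => ?_⟩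
  haveI := faithfullyFlat_cpl A
  refine exists_mul_eq (Ω := Ω) (algebraMap A (EGA4.Cpl A)) (FaithfulSMul.algebraMap_injective A (EGA4.Cpl A)) Sb
    (Set.range (algebraMap L Ω) ∪ Set.range (algebraMap M Ω)) (closure_union_eq_top hΩ) ?_ x
  rintro _ (⟨l, rfl⟩ | ⟨m, rfl⟩)
  · obtain ⟨s, t, ht, hst⟩ := hSfr l
    refine ⟨algebraMap _ A s, algebraMap _ A t, fun h0 => ht (Subtype.ext ((algebraMap L Ω).injective ?_)), ?_,
      hφS s ▸ hSbS _, hφS t ▸ hSbS _⟩
    · rw [← hSA, h0, ZeroMemClass.coe_zero, ZeroMemClass.coe_zero, map_zero]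
    · show algebraMap L Ω l * ((algebraMap _ A t : A) : Ω) = ((algebraMap _ A s : A) : Ω)
      rw [hSA, hSA, ← map_mul, hst]
  · obtain ⟨s, t, ht, hst⟩ := hTfr m
    refine ⟨algebraMap _ A s, algebraMap _ A t, fun h0 => ht (Subtype.ext ((algebraMap M Ω).injective ?_)), ?_,
      ⟨_, 1, hSb (algebraMap _ _ s), Sb.one_mem, one_ne_zero, by rw [mul_one, hφ]⟩,
      ⟨_, 1, hSb (algebraMap _ _ t), Sb.one_mem, one_ne_zero, by rw [mul_one, hφ]⟩⟩
    · rw [← hTA, h0, ZeroMemClass.coe_zero, ZeroMemClass.coe_zero, map_zero]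
    · show algebraMap M Ω m * ((algebraMap _ A t : A) : Ω) = ((algebraMap _ A s : A) : Ω)
      rw [hTA, hTA, ← map_mul, hst]

include hR hΩ hA hSA hTA hφS hφ in
theorem fractions_compositum (Sb : Subring (EGA4.Cpl A)) (hS : ∀ s, φS s ∈ Sb) (hT : ∀ c, φ c ∈ Sb) (x : EGA4.Cpl A) :
    ∃ a b, a ∈ Sb ∧ b ∈ Sb ∧ b ≠ 0 ∧ x * b = a := by
  obtain ⟨_, _, _, _, -, -, hf, hfrac⟩ := setup hR hΩ 𝔪 A hA hSA hTA φS hφS φ hφ
  exact exists_mul_eq_cpl φ hφ hf Sb hT
    (hfrac Sb hT fun s => ⟨φS s, 1, hS s, Sb.one_mem, one_ne_zero, mul_one _⟩) x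

include hR hΩ hA hSA hTA hφS hφ in
theorem unramified_of_le (hLM : ∀ x, ∃ a b, φ b ≠ 0 ∧ φS x * φ b = φ a) :
    (maximalIdeal (Subalgebra.comap (IsScalarTower.toAlgHom R M Ω) A)).map (algebraMap _ A) = maximalIdeal A ∧
      ∀ x : A, ∃ t, x - algebraMap (Subalgebra.comap (IsScalarTower.toAlgHom R M Ω) A) A t ∈ maximalIdeal A := by
  obtain ⟨_, _, _, _, ⟨_, _⟩, hdim, hf, hfrac⟩ := setup hR hΩ 𝔪 A hA hSA hTA φS hφS φ hφ
  refine unramified_of_surjective φ hφ (surjective_of_birational φ hφ hf hdim ?_)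
  refine hfrac φ.range (fun c => ⟨c, rfl⟩) fun s => ?_
  obtain ⟨a, b, hb, h⟩ := hLM s
  exact ⟨φ a, φ b, ⟨a, rfl⟩, ⟨b, rfl⟩, hb, h⟩

end Groth.Agent.H9Cpl
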